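import Mathlib.Algebra.Lie.OfAssociative
import Mathlib.LinearAlgebra.Basis.Bilinear
import Mathlib.LinearAlgebra.Basis.Defs
import Mathlib.LinearAlgebra.Basis.SMul
import Mathlib.Algebra.BigOperators.Fin
import Mathlib.Tactic.Module
import Mathlib.Tactic.Ring
import Mathlib.Tactic.LinearCombination
import Mathlib.Tactic.FinCases
import Mathlib.RingTheory.Coprime.Basic

/-! Bracket and coordinates in a three-dimensional Lie algebra of the form `A ⋉ A²`. -/

namespace Groth.Agent.GrpHelp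

universe u v
variable {A : Type u} [CommRing A] {L : Type v} [LieRing L] [LieAlgebra A L]

theorem expand3 (b : Module.Basis (Fin 3) A L) (x : L) :
    x = b.repr x 0 • b 0 + b.repr x 1 • b 1 + b.repr x 2 • b 2 := by
  conv_lhs => rw [← b.sum_repr x]
  rw [Fin.sum_univ_three]

theorem lie_semidirect (b : Module.Basis (Fin 3) A L) {u v : L} (h01 : ⁅b 0, b 1⁆ = u)
    (h02 : ⁅b 0, b 2⁆ = v) (h12 : ⁅b 1, b 2⁆ = 0) (x y : L) :
    ⁅x, y⁆ = (b.repr x 0 * b.repr y 1 - b.repr x 1 * b.repr y 0) • u +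
      (b.repr x 0 * b.repr y 2 - b.repr x 2 * b.repr y 0) • v := by
  have h10 : ⁅b 1, b 0⁆ = -u := by rw [← lie_skew, h01]
  have h20 : ⁅b 2, b 0⁆ = -v := by rw [← lie_skew, h02]
  have h21 : ⁅b 2, b 1⁆ = 0 := by rw [← lie_skew, h12, neg_zero]
  conv_lhs => rw [expand3 b x, expand3 b y]
  simp only [lie_add, add_lie, lie_smul, smul_lie, h01, h02, h12, h10, h20, h21, lie_self,
    smul_zero, add_zero, zero_add, smul_smul, smul_neg]
  module

theorem det_eq (b : Module.Basis (Fin 3) A L) (φ : L ≃ₗ⁅A⁆ L) (h1 : b.repr (φ (b 1)) 0 = 0)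
    (h2 : b.repr (φ (b 2)) 0 = 0) :
    IsUnit (b.repr (φ (b 1)) 1 * b.repr (φ (b 2)) 2 - b.repr (φ (b 1)) 2 * b.repr (φ (b 2)) 1) := by
  have key : ∀ j i : Fin 3, b.repr (φ (φ.symm (b j))) i =
      b.repr (φ.symm (b j)) 0 * b.repr (φ (b 0)) i + b.repr (φ.symm (b j)) 1 * b.repr (φ (b 1)) i +
      b.repr (φ.symm (b j)) 2 * b.repr (φ (b 2)) i := by
    intro j i
    have hx : φ (φ.symm (b j)) = b.repr (φ.symm (b j)) 0 • φ (b 0) +
        b.repr (φ.symm (b j)) 1 • φ (b 1) + b.repr (φ.symm (b j)) 2 • φ (b 2) := by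
      conv_lhs => rw [expand3 b (φ.symm (b j))]
      exact by simp only [← LieEquiv.coe_toLieHom, map_add, map_smul]
    rw [hx]
    simp
  simp only [LieEquiv.apply_symm_apply, Module.Basis.repr_self] at key
  have e00 := key 0 0
  have e10 := key 1 0
  have e20 := key 2 0
  have e11 := key 1 1
  have e12 := key 1 2
  have e21 := key 2 1
  have e22 := key 2 2
  simp [h1, h2] at e00 e10 e20 e11 e12 e21 e22
  set a := b.repr (φ (b 0)) 0
  have ha : IsUnit a := IsUnit.of_mul_eq_one_right _ e00.symm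
  rw [ha.mul_left_eq_zero.mp e10.symm] at e11 e12
  rw [ha.mul_left_eq_zero.mp e20.symm] at e21 e22
  set q1 := b.repr (φ.symm (b 1)) 1
  set r1 := b.repr (φ.symm (b 1)) 2
  set q2 := b.repr (φ.symm (b 2)) 1
  set r2 := b.repr (φ.symm (b 2)) 2
  set e := b.repr (φ (b 1)) 1
  set f := b.repr (φ (b 1)) 2
  set h := b.repr (φ (b 2)) 1
  set i := b.repr (φ (b 2)) 2
  exact IsUnit.of_mul_eq_one (a := e * i - f * h) (q1 * r2 - r1 * q2) (by
    linear_combination (-(q2 * f + r2 * i)) * e11 + (q1 * f + r1 * i) * e21 - e22)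

/-- A linear equivalence respecting the brackets of basis vectors is a Lie equivalence. -/
theorem lieEquiv_of_basis {L' : Type*} [LieRing L'] [LieAlgebra A L'] {ι : Type*}
    (b : Module.Basis ι A L) (f : L ≃ₗ[A] L') (h : ∀ i j, f ⁅b i, b j⁆ = ⁅f (b i), f (b j)⁆) :
    Nonempty (L ≃ₗ⁅A⁆ L') := by
  have : ∀ x y, f ⁅x, y⁆ = ⁅f x, f y⁆ := by
    intro x y
    have hB : (LieModule.toEnd A L L : L →ₗ[A] L →ₗ[A] L).compr₂ f.toLinearMap =
        (LieModule.toEnd A L' L' : L' →ₗ[A] L' →ₗ[A] L').compl₁₂ f.toLinearMap f.toLinearMap :=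
      LinearMap.ext_basis b b fun i j => by simpa using h i j
    simpa using LinearMap.congr_fun (LinearMap.congr_fun hB x) y
  exact ⟨{ f with map_lie' := this _ _ }⟩

end Groth.Agent.GrpHelp
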